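import Cfsg.Agent.INV.M23.Defs
import Cfsg.Agent.S3779
import Cfsg.Agent.INV.Gold.Four3

/-! Fixed-point-free elements of order 3. -/

set_option autoImplicit false
set_option linter.style.haveILetI false
set_option linter.unusedSectionVars false
open Subgroup Cfsg CL.MSS CL.BG CL.KM CL.K3
open scoped commutatorElement

namespace CL.M23
variable {G : Type*} [Group G] [Finite G]

/-- S3779 (`p = 3`) for conjugation by `z` on `X` (trivial if `X = ⊥`). -/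
theorem class2 {X : Subgroup G} {z : G} (z3 : z ^ 3 = 1) (hn : z ∈ 𝐍(X))
    (fp : ∀ x ∈ X, Commute z x → x = 1) {x y w : G} (hx : x ∈ X) (hy : y ∈ X) (hw : w ∈ X) :
    Commute ⁅x, y⁆ w := by
  by_cases h1 : x = 1
  · simp [h1]
  let α : MulAut X := X.normalizerMonoidHom ⟨z, hn⟩
  have hα : ∀ g : X, (α g : G) = z * g * z⁻¹ := fun g => rfl
  have fx : ∀ g : X, α g = g → g = 1 := fun g e => Subtype.ext (fp g g.2 (by
    have := congrArg Subtype.val e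
    rwa [hα, mul_inv_eq_iff_eq_mul] at this))
  haveI : Fact (Nat.Prime 3) := ⟨Nat.prime_three⟩
  have h := (Cfsg.Agent.S3779.result Nat.prime_three α (orderOf_eq_prime (by
    rw [← map_pow, show (⟨z, hn⟩ : (𝐍(X) : Subgroup G)) ^ 3 = 1 from Subtype.ext z3, map_one])
    fun e => h1 (congrArg Subtype.val (fx ⟨x, hx⟩ (by rw [e]; rfl)))) fx).2.1 rfl
  have m : ⁅⁅(⟨x, hx⟩ : X), (⟨y, hy⟩ : X)⁆, (⟨w, hw⟩ : X)⁆ ∈ (⊤ : Subgroup X).lowerCentralSeries 2 :=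
    commutator_mem_commutator (commutator_mem_commutator (mem_top _) (mem_top _)) (mem_top _)
  rw [h, mem_bot, commutatorElement_eq_one_iff_commute] at m
  exact m.map X.subtype

/-- `σ` = conjugation by `z`.  `x σx σ²x = 1` (`CL.Gold.F4.fpf_three`), also for `x⁻¹`, so `x` commutes with `σx`;
by `class2` the commutator is bilinear: `[xy, σ(xy)] = 1` gives `[x, σy] = [σx, y]`, so
`σ[x,y] = [σx, σy] = [x, σ²y]` and `[x, σy] = σ²[x, σ^{-3} y] = σ²[x,y]`. -/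
theorem anti {X : Subgroup G} {z : G} (z3 : z ^ 3 = 1) (hn : z ∈ 𝐍(X))
    (fp : ∀ x ∈ X, Commute z x → x = 1) {x y : G} (hx : x ∈ X) (hy : y ∈ X) :
    ⁅x, z * y * z⁻¹⁆ = z * z * ⁅x, y⁆ * (z * z)⁻¹ := by
  have c2 := fun {x y w : G} => class2 z3 hn fp (x := x) (y := y) (w := w)
  have f := fun {x : G} (hx : x ∈ X) => CL.Gold.F4.fpf_three hn (fun x hx e => fp x hx e)
    (by rw [z3]; exact one_mem _) hx
  have cs : ∀ x ∈ X, ⁅x, z * x * z⁻¹⁆ = 1 := fun x hx => by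
    have e1 := eq_inv_of_mul_eq_one_left (f hx)
    have e2 := congrArg Inv.inv (f (inv_mem hx))
    simp only [mul_inv_rev, inv_inv, inv_one, ← mul_assoc] at e2
    refine commutatorElement_eq_one_iff_commute.2 (e1.trans (inv_eq_of_mul_eq_one_right ?_))
    simpa only [mul_assoc] using e2
  have bl : ∀ a ∈ X, ∀ b ∈ X, ∀ c ∈ X, ⁅a * b, c⁆ = ⁅a, c⁆ * ⁅b, c⁆ := fun a ha b hb c hc => by
    rw [show ⁅a * b, c⁆ = a * ⁅b, c⁆ * a⁻¹ * ⁅a, c⁆ by simp only [commutatorElement_def]; group,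
      ← (c2 hb hc ha).eq, mul_inv_cancel_right, (c2 hb hc (commutatorElement_def a c ▸
        mul_mem (mul_mem (mul_mem ha hc) (inv_mem ha)) (inv_mem hc))).eq]
  have br : ∀ a ∈ X, ∀ b ∈ X, ∀ c ∈ X, ⁅a, b * c⁆ = ⁅a, b⁆ * ⁅a, c⁆ := fun a ha b hb c hc => by
    rw [show ⁅a, b * c⁆ = ⁅a, b⁆ * (b * ⁅a, c⁆ * b⁻¹) by simp only [commutatorElement_def]; group,
      ← (c2 ha hc hb).eq, mul_inv_cancel_right]
  have k : ∀ x ∈ X, ∀ y ∈ X, ⁅x, z * y * z⁻¹⁆ = ⁅z * x * z⁻¹, y⁆ := fun x hx y hy => by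
    have := cs _ (mul_mem hx hy)
    rw [← conj_mul, bl _ hx _ hy _ (mul_mem (conj_mem hn hx) (conj_mem hn hy)),
      br _ hx _ (conj_mem hn hx) _ (conj_mem hn hy), br _ hy _ (conj_mem hn hx) _ (conj_mem hn hy),
      cs x hx, cs y hy, one_mul, mul_one] at this
    rw [eq_inv_of_mul_eq_one_left this, commutatorElement_inv]
  have k2 : ∀ y ∈ X, z * ⁅x, y⁆ * z⁻¹ = ⁅x, z * (z * y * z⁻¹) * z⁻¹⁆ := fun y hy => by
    rw [k x hx _ (conj_mem hn hy)]
    simp only [commutatorElement_def]; group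
  rw [show z * z * ⁅x, y⁆ * (z * z)⁻¹ = z * (z * ⁅x, y⁆ * z⁻¹) * z⁻¹ by group, k2 y hy,
    k2 _ (conj_mem hn (conj_mem hn hy))]
  congr 1
  calc z * y * z⁻¹ = z ^ 3 * (z * y * z⁻¹) * (z ^ 3)⁻¹ := by rw [z3]; group
    _ = _ := by rw [pow_three]; group

end CL.M23
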