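import Cfsg.Agent.INV.M23.KeyL

/-! The key lemma. -/

set_option autoImplicit false
set_option linter.style.haveILetI false
set_option linter.unusedSectionVars false
open Subgroup Cfsg CL.MSS CL.BG CL.KM CL.K3

namespace CL.M23
variable {G : Type*} [Group G] [Finite G]

theorem pick {P1 P2 P3 Q1 Q2 Q3 : Prop} : P1 ∨ P2 → P1 ∨ P3 → P2 ∨ P3 → Q1 ∨ Q2 → Q1 ∨ Q3 → Q2 ∨ Q3 →
    (P1 ∧ Q1) ∨ (P2 ∧ Q2) ∨ (P3 ∧ Q3) := by tauto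

theorem keyG {E D N₁ N₂ : Subgroup G} {z b f g : G} (i : I2 z b) (hE : zpowers z ⊔ zpowers b = E)
    (hC : 𝐂(D) ≤ D) (mx : ∀ x ∈ 𝐂(E), x ^ 3 = 1 → x ∈ E)
    (fp : ∀ X : Subgroup G, IsPGroup 2 X → E ≤ 𝐍(X) → ∀ x ∈ X, Commute z x → x = 1)
    (eD : E ≤ 𝐍(D)) (p₁ : IsPGroup 2 N₁) (e₁ : E ≤ 𝐍(N₁)) (l₁ : D ≤ N₁) (n₁ : N₁ ≤ 𝐍(D))
    (p₂ : IsPGroup 2 N₂) (e₂ : E ≤ 𝐍(N₂)) (l₂ : D ≤ N₂) (n₂ : N₂ ≤ 𝐍(D))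
    (f₁ : f ∈ N₁) (fD : f ∉ D) (bf : Commute b f) (g₂ : g ∈ N₂) (gD : g ∉ D) (bg : Commute (b * z) g) :
    ∃ J₁ J₂ : Subgroup G, IsPGroup 2 J₁ ∧ E ≤ 𝐍(J₁) ∧ D ≤ J₁ ∧ J₁ ≤ 𝐍(D) ∧ ¬ J₁ ⊓ N₁ ≤ D ∧
      IsPGroup 2 J₂ ∧ E ≤ 𝐍(J₂) ∧ D ≤ J₂ ∧ J₂ ≤ 𝐍(D) ∧ ¬ J₂ ⊓ N₂ ≤ D ∧
      ∃ u ∈ E, u ≠ 1 ∧ ¬ J₁ ⊓ 𝐂₁(u) ≤ D ∧ ¬ J₂ ⊓ 𝐂₁(u) ≤ D := by
  have zE : z ∈ E := hE ▸ mem_sup_left (mem_zpowers z)
  have bE : b ∈ E := hE ▸ mem_sup_right (mem_zpowers b)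
  set L : Subgroup G := 𝐍(D) with hL
  let z' : L := ⟨z, eD zE⟩
  let b' : L := ⟨b, eD bE⟩
  have i' : I2 z' b' := I2.of_map (φ := L.subtype) i (Subtype.ext i.a3) (Subtype.ext i.b3)
    (Subtype.ext i.ab)
  have mE : ∀ x : L, x ∈ zpowers z' ⊔ zpowers b' ↔ (x : G) ∈ E := fun x => by
    rw [← hE, i.mem, i'.mem]
    exact exists_congr fun k => exists_congr fun l => Subtype.ext_iff
  have up : ∀ X : Subgroup L, z' ∈ 𝐍(X) → b' ∈ 𝐍(X) → E ≤ 𝐍(X.map L.subtype) := fun X h1 h2 => by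
    rw [← hE]
    refine sup_le (zpowers_le.2 (mem_norm ?_)) (zpowers_le.2 (mem_norm ?_)) <;> rintro _ ⟨x, hx, rfl⟩
    exacts [⟨_, conj_mem h1 hx, rfl⟩, ⟨_, conj_mem h2 hx, rfl⟩]
  have dn : ∀ {X : Subgroup G} {y : L}, (y : G) ∈ 𝐍(X) → y ∈ 𝐍(X.subgroupOf L) := fun h =>
    mem_norm fun x hx => mem_subgroupOf.2 (conj_mem h (mem_subgroupOf.1 hx))
  haveI : (D.subgroupOf L).Normal := normal_in_normalizer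
  obtain ⟨J₁, J₂, a1, a2, a3, a4, a5, a6, a7, a8, a9, a10, u, hu, u1, c1, c2⟩ :=
    keyL (D := D.subgroupOf L) (N₁ := N₁.subgroupOf L) (N₂ := N₂.subgroupOf L) (f := ⟨f, n₁ f₁⟩)
      (g := ⟨g, n₂ g₂⟩) i' ((p₁.to_le l₁).comap_subtype)
      (fun x hx => hC (mem_cent.2 fun d hd =>
        congrArg Subtype.val (mem_cent.1 hx ⟨d, le_normalizer hd⟩ hd)))
      (fun x h1 h2 h3 => (mE x).2 (mx x (le_centralizer_iff.1 (by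
        rw [← hE]
        exact sup_le (zpowers_le.2 (mem_cent.2 (by rintro _ ⟨k, rfl⟩; exact ((h1.map L.subtype).symm.zpow_left k))))
          (zpowers_le.2 (mem_cent.2 (by rintro _ ⟨k, rfl⟩; exact ((h2.map L.subtype).symm.zpow_left k)))))
        (mem_zpowers (x : G))) (congrArg Subtype.val h3)))
      (fun X h1 h2 h3 x hx h4 => Subtype.ext (fp _ (h1.map L.subtype) (up X h2 h3) x ⟨x, hx, rfl⟩
        (h4.map L.subtype)))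
      p₁.comap_subtype (fun x hx => l₁ hx) (dn (e₁ zE)) (dn (e₁ bE))
      p₂.comap_subtype (fun x hx => l₂ hx) (dn (e₂ zE)) (dn (e₂ bE)) f₁ fD (Subtype.ext bf) g₂ gD
      (Subtype.ext bg)
  have k1 : ∀ {J : Subgroup L}, D.subgroupOf L ≤ J → D ≤ J.map L.subtype := fun h d hd =>
    ⟨⟨d, le_normalizer hd⟩, h hd, rfl⟩
  have k2 : ∀ {J : Subgroup L}, ¬ J ⊓ 𝐂₁(u) ≤ D.subgroupOf L → ¬ J.map L.subtype ⊓ 𝐂₁((u : G)) ≤ D :=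
    fun h e => h fun x hx => e ⟨⟨x, hx.1, rfl⟩, mem_cent1.2 ((mem_cent1.1 hx.2).map L.subtype)⟩
  exact ⟨_, _, a1.map _, up _ a2 a3, k1 a4, map_subtype_le _, fun e => fD (e ⟨⟨_, a5, rfl⟩, f₁⟩),
    a6.map _, up _ a7 a8, k1 a9, map_subtype_le _, fun e => gD (e ⟨⟨_, a10, rfl⟩, g₂⟩), u, (mE u).1 hu,
    fun e => u1 (Subtype.ext e), k2 c1, k2 c2⟩

/-- For an `E`-invariant 2-group `X ≰ D` some `e ∈ E#` has `C_X(e) ≰ D` (`coprime_le_of_forall_centralizer_le`), and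
`e ∉ ⟨z⟩` by `fp`.  The subgroups of order 3 of `E` other than `⟨z⟩` are `⟨a⟩, ⟨az⟩, ⟨az⁻¹⟩`.
`D = ⊥`: `J_i` = a maximal `E`-invariant 2-subgroup containing `N_i` (`max_normed_exists`); `O₂(N(J)) = J`, so
`C(J) ≤ J` (`char_two`) and no `e ∈ E#` centralizes `J`; hence two of the three have fixed points on `J`.
`D ≠ ⊥`, `O = O₂(N(D)) ≰ D`: `J_i = N_i O`, `u` for `O`.  `O = D`: `C(D) ≤ D` (`char_two`); `b₁` for `N₁`, `b₂` for `N₂`;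
if `⟨b₁⟩ = ⟨b₂⟩` take `J_i = N_i`; else `b₂` or `b₂⁻¹` is `b₁ z'` with `z' = z` or `z⁻¹`: `keyL` in `↥N(D)`. -/
theorem key (c2 : IsCharacteristicTwoType G) {E D N₁ N₂ : Subgroup G} {z : G} (hE : EA 3 E)
    (h9 : #|E| = 9) (zE : z ∈ E) (z1 : z ≠ 1) (mx : ∀ x ∈ 𝐂(E), x ^ 3 = 1 → x ∈ E)
    (fp : ∀ X : Subgroup G, IsPGroup 2 X → E ≤ 𝐍(X) → ∀ x ∈ X, Commute z x → x = 1)
    (eD : E ≤ 𝐍(D)) (p₁ : IsPGroup 2 N₁) (e₁ : E ≤ 𝐍(N₁)) (l₁ : D < N₁) (n₁ : N₁ ≤ 𝐍(D))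
    (p₂ : IsPGroup 2 N₂) (e₂ : E ≤ 𝐍(N₂)) (l₂ : D < N₂) (n₂ : N₂ ≤ 𝐍(D)) :
    ∃ J₁ J₂ : Subgroup G, IsPGroup 2 J₁ ∧ E ≤ 𝐍(J₁) ∧ D ≤ J₁ ∧ J₁ ≤ 𝐍(D) ∧ ¬ J₁ ⊓ N₁ ≤ D ∧
      IsPGroup 2 J₂ ∧ E ≤ 𝐍(J₂) ∧ D ≤ J₂ ∧ J₂ ≤ 𝐍(D) ∧ ¬ J₂ ⊓ N₂ ≤ D ∧
      ∃ u ∈ E, u ≠ 1 ∧ ¬ J₁ ⊓ 𝐂₁(u) ≤ D ∧ ¬ J₂ ⊓ 𝐂₁(u) ≤ D := by
  haveI : Fact (Nat.Prime 2) := ⟨Nat.prime_two⟩
  haveI : Fact (Nat.Prime 3) := ⟨Nat.prime_three⟩
  haveI := hE.comm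
  have gen : ∀ {X : Subgroup G} (M : Subgroup G), IsPGroup 2 X → E ≤ 𝐍(X) →
      (∀ e ∈ E, e ≠ 1 → X ⊓ 𝐂₁(e) ≤ M) → X ≤ M := fun M p e h =>
    CL.coprime_le_of_forall_centralizer_le E _ M (not_cyclic hE h9.ge) e
      (IsPGroup.coprime_card_of_ne 3 2 (by norm_num) _ _ hE.isPGroup p) h
  have fz : ∀ {X : Subgroup G} (M : Subgroup G), IsPGroup 2 X → E ≤ 𝐍(X) → X ⊓ 𝐂₁(z) ≤ M :=
    fun M p e x hx => fp _ p e x hx.1 (mem_cent1.1 hx.2) ▸ one_mem _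
  have ex : ∀ {X : Subgroup G}, IsPGroup 2 X → E ≤ 𝐍(X) → ¬ X ≤ D →
      ∃ e ∈ E, e ≠ 1 ∧ ¬ X ⊓ 𝐂₁(e) ≤ D := fun p e h => by
    by_contra! hc
    exact h (gen D p e hc)
  have hD := p₁.to_le l₁.le
  by_cases h0 : D = ⊥
  · obtain ⟨a, ha, i⟩ := exists_i2 hE h9.ge zE z1
    have eq := i.eq_of_card zE ha h9
    have m3 : a * z ∈ E := mul_mem ha zE
    have m4 : a * z⁻¹ ∈ E := mul_mem ha (inv_mem zE)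
    have n3 : a * z ≠ 1 := fun e => i.nb (eq_inv_of_mul_eq_one_left e ▸ inv_mem (mem_zpowers z))
    have n4 : a * z⁻¹ ≠ 1 := fun e => i.nb (mul_inv_eq_one.1 e ▸ mem_zpowers a)
    have two : ∀ {N : Subgroup G}, IsPGroup 2 N → E ≤ 𝐍(N) → D < N → ∃ J : Subgroup G,
        IsPGroup 2 J ∧ E ≤ 𝐍(J) ∧ N ≤ J ∧ (¬ J ⊓ 𝐂₁(a) ≤ D ∨ ¬ J ⊓ 𝐂₁(a * z) ≤ D) ∧
        (¬ J ⊓ 𝐂₁(a) ≤ D ∨ ¬ J ⊓ 𝐂₁(a * z⁻¹) ≤ D) ∧
        (¬ J ⊓ 𝐂₁(a * z) ≤ D ∨ ¬ J ⊓ 𝐂₁(a * z⁻¹) ≤ D) := fun {N} p e l => by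
      obtain ⟨J, hJ, le⟩ := max_normed_exists p e
      obtain ⟨q, eJ, mJ⟩ := mem_max_normed_iff.1 hJ
      have J0 : J ≠ ⊥ := fun e => l.not_ge (le.trans (e.le.trans bot_le))
      have oJ : pCoreOf 2 𝐍(J) = J := mJ _ (oP_isPGroup _) (eJ.trans (oP_normal _))
        (le_oP q le_normalizer le_rfl)
      have nc : ∀ u ∈ E, u ≠ 1 → ¬ J ≤ 𝐂₁(u) := fun u hu u1 hc => by
        have := char_two c2 q J0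
        rw [oJ] at this
        obtain ⟨k, hk⟩ := pg_elem q (this ⟨eJ hu, mem_cent.2 fun s hs => (mem_cent1.1 (hc hs)).symm⟩)
        exact u1 (eq_one_of_two_primes (p := 3) (by norm_num) (k := 1) (by simpa using hE.2 u hu) hk)
      have d0 : ∀ M : Subgroup G, D ≤ M := fun M => h0 ▸ bot_le
      refine ⟨J, q, eJ, le, ?_, ?_, ?_⟩ <;> by_contra! hc
      · refine nc _ m4 n4 (gen _ q eJ fun e he e1 => ?_)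
        obtain ⟨u, rfl | rfl | rfl | rfl, e2, -⟩ := cases4 i (eq ▸ he) e1 <;> rw [e2]
        exacts [fz _ q eJ, hc.1.trans (d0 _), hc.2.trans (d0 _), inf_le_right]
      · refine nc _ m3 n3 (gen _ q eJ fun e he e1 => ?_)
        obtain ⟨u, rfl | rfl | rfl | rfl, e2, -⟩ := cases4 i (eq ▸ he) e1 <;> rw [e2]
        exacts [fz _ q eJ, hc.1.trans (d0 _), inf_le_right, hc.2.trans (d0 _)]
      · refine nc _ ha i.b1 (gen _ q eJ fun e he e1 => ?_)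
        obtain ⟨u, rfl | rfl | rfl | rfl, e2, -⟩ := cases4 i (eq ▸ he) e1 <;> rw [e2]
        exacts [fz _ q eJ, inf_le_right, hc.1.trans (d0 _), hc.2.trans (d0 _)]
    obtain ⟨J₁, a1, a2, a3, a4, a5, a6⟩ := two p₁ e₁ l₁
    obtain ⟨J₂, b1, b2, b3, b4, b5, b6⟩ := two p₂ e₂ l₂
    have nD : ∀ X : Subgroup G, X ≤ 𝐍(D) := fun X => by rw [h0]; exact le_normalizer_of_normal
    refine ⟨J₁, J₂, a1, a2, l₁.le.trans a3, nD _, fun e => l₁.not_ge ((le_inf a3 le_rfl).trans e),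
      b1, b2, l₂.le.trans b3, nD _, fun e => l₂.not_ge ((le_inf b3 le_rfl).trans e), ?_⟩
    rcases pick a4 a5 a6 b4 b5 b6 with c | c | c
    exacts [⟨a, ha, i.b1, c⟩, ⟨_, m3, n3, c⟩, ⟨_, m4, n4, c⟩]
  by_cases hO : pCoreOf 2 𝐍(D) ≤ D
  swap
  · have eO : E ≤ 𝐍(pCoreOf 2 𝐍(D)) := eD.trans (oP_normal _)
    obtain ⟨u, hu, u1, c⟩ := ex (oP_isPGroup _) eO hO
    exact ⟨N₁ ⊔ pCoreOf 2 𝐍(D), N₂ ⊔ pCoreOf 2 𝐍(D),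
      isPGroup_sup_of_normalizes p₁ (oP_isPGroup _) (n₁.trans (oP_normal _)), le_normalizer_sup e₁ eO,
      l₁.le.trans le_sup_left, sup_le n₁ (oP_le _), fun e => l₁.not_ge ((le_inf le_sup_left le_rfl).trans e),
      isPGroup_sup_of_normalizes p₂ (oP_isPGroup _) (n₂.trans (oP_normal _)), le_normalizer_sup e₂ eO,
      l₂.le.trans le_sup_left, sup_le n₂ (oP_le _), fun e => l₂.not_ge ((le_inf le_sup_left le_rfl).trans e),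
      u, hu, u1, fun e => c ((inf_le_inf_right _ le_sup_right).trans e),
      fun e => c ((inf_le_inf_right _ le_sup_right).trans e)⟩
  have hC : 𝐂(D) ≤ D := by
    have := char_two c2 hD h0
    rw [le_antisymm hO (le_oP hD le_normalizer le_rfl)] at this
    exact (le_inf (centralizer_le_normalizer _) le_rfl).trans this
  obtain ⟨b, hb, b1, c₁⟩ := ex p₁ e₁ l₁.not_ge
  obtain ⟨b', hb', b1', c₂⟩ := ex p₂ e₂ l₂.not_ge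
  have z3 := hE.2 z zE
  have i : I2 z b := ⟨z3, hE.2 b hb, hE.1 z zE b hb, z1, fun h => c₁ fun x hx => fz D p₁ e₁ ⟨hx.1, by
    rcases (mem_zp3 z3).1 h with rfl | rfl | rfl
    exacts [(b1 rfl).elim, hx.2, mem_cent1.2 (commute_of_sq (by decide) z3 (mem_cent1.1 hx.2))]⟩⟩
  have eq := i.eq_of_card zE hb h9
  obtain ⟨f, f1, f2⟩ := SetLike.not_le_iff_exists.1 c₁
  obtain ⟨u, hu, e2, -⟩ := cases4 i (eq ▸ hb') b1'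
  rw [e2] at c₂
  obtain ⟨g, g1, g2⟩ := SetLike.not_le_iff_exists.1 c₂
  rcases hu with rfl | rfl | rfl | rfl
  · exact (c₂ (fz D p₂ e₂)).elim
  · exact ⟨N₁, N₂, p₁, e₁, l₁.le, n₁, fun e => l₁.not_ge ((le_inf le_rfl le_rfl).trans e), p₂, e₂, l₂.le,
      n₂, fun e => l₂.not_ge ((le_inf le_rfl le_rfl).trans e), u, hb, b1, c₁, c₂⟩
  · exact keyG i eq hC mx fp eD p₁ e₁ l₁.le n₁ p₂ e₂ l₂.le n₂ f1.1 f2 (mem_cent1.1 f1.2) g1.1 g2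
      (mem_cent1.1 g1.2)
  · exact keyG (z := z⁻¹) ⟨by rw [inv_pow, z3, inv_one], i.b3, i.ab.inv_left, inv_ne_one.2 z1,
      by rw [zpowers_inv]; exact i.nb⟩ (by rw [zpowers_inv, eq]) hC mx
      (fun X a1 a2 x hx h => fp X a1 a2 x hx (by simpa using h)) eD p₁ e₁ l₁.le n₁ p₂ e₂ l₂.le n₂ f1.1 f2
      (mem_cent1.1 f1.2) g1.1 g2 (mem_cent1.1 g1.2)

end CL.M23
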