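import Cfsg.Agent.INV.M23.LinG
import Cfsg.Agent.INV.M23.Fpf

/-! The key lemma for a self-centralizing normal 2-subgroup. -/

set_option autoImplicit false
set_option linter.style.haveILetI false
set_option linter.unusedSectionVars false
open Subgroup Cfsg CL.MSS CL.BG CL.KM CL.K3
open scoped commutatorElement

namespace CL.M23

section
variable {L : Type*} [Group L] [Finite L]

theorem cases9 {z b e : L} (i : I2 z b) (he : e ∈ zpowers z ⊔ zpowers b) (e1 : e ≠ 1) :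
    ∃ u, (u = z ∨ u = b ∨ u = b * z ∨ u = b * z⁻¹) ∧ (e = u ∨ e = u * u) := by
  obtain ⟨k, l, rfl⟩ := i.mem.1 he
  have zi : z⁻¹ = z * z := inv_eq_of_mul_eq_one_right (by rw [← pow_three, i.a3])
  have c := i.ab
  have h1 : b * z * (b * z) = z ^ 2 * b ^ 2 := by rw [← pow_two, c.symm.mul_pow, (c.pow_pow 2 2).eq]
  have h2 : b * z⁻¹ * (b * z⁻¹) = z * b ^ 2 := by
    rw [← pow_two, c.symm.inv_right.mul_pow, (c.pow_right 2).eq, zi, ← pow_two, ← pow_mul,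
      show 2 * 2 = 3 + 1 from rfl, pow_succ z, i.a3, one_mul]
  fin_cases k <;> fin_cases l
  · exact (e1 (by simp)).elim
  · exact ⟨b, by simp, by simp⟩
  · exact ⟨b, by simp, by simp [pow_two]⟩
  · exact ⟨z, by simp, by simp⟩
  · exact ⟨b * z, by simp, Or.inl (by simpa using c.eq)⟩
  · exact ⟨b * z⁻¹, by simp, Or.inr (by simpa using h2.symm)⟩
  · exact ⟨z, by simp, by simp [pow_two]⟩
  · exact ⟨b * z⁻¹, by simp, Or.inl (by rw [zi, ← pow_two]; simpa using (c.pow_left 2).eq)⟩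
  · exact ⟨b * z, by simp, Or.inr (by simpa using h1.symm)⟩

theorem mem_of_sq {K : Subgroup L} {u : L} (h3 : u ^ 3 = 1) (h : u * u ∈ K) : u ∈ K := by
  have := mul_mem h h
  rwa [mul_assoc, ← pow_three, h3, mul_one] at this

theorem mem4 {z b u : L} (h : u = z ∨ u = b ∨ u = b * z ∨ u = b * z⁻¹) : u ∈ zpowers z ⊔ zpowers b := by
  have h1 : z ∈ zpowers z ⊔ zpowers b := mem_sup_left (mem_zpowers z)
  have h2 : b ∈ zpowers z ⊔ zpowers b := mem_sup_right (mem_zpowers b)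
  rcases h with rfl | rfl | rfl | rfl
  exacts [h1, h2, mul_mem h2 h1, mul_mem h2 (inv_mem h1)]

/-- the four subgroups of order 3 -/
theorem cases4 {z b e : L} (i : I2 z b) (he : e ∈ zpowers z ⊔ zpowers b) (e1 : e ≠ 1) :
    ∃ u, (u = z ∨ u = b ∨ u = b * z ∨ u = b * z⁻¹) ∧ 𝐂₁(e) = 𝐂₁(u) ∧
      ∀ K : Subgroup L, e ∈ K → u ∈ K := by
  obtain ⟨u, hu, rfl | rfl⟩ := cases9 i he e1
  · exact ⟨_, hu, rfl, fun _ h => h⟩
  have h3 := i.ea.2 u (mem4 hu)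
  refine ⟨u, hu, le_antisymm (fun x hx => mem_cent1.2 (commute_of_sq (by decide) h3 (mem_cent1.1 hx)))
    fun x hx => mem_cent1.2 ((mem_cent1.1 hx).mul_left (mem_cent1.1 hx)), fun K h => mem_of_sq h3 h⟩

theorem comm_of_pow {y d : L} (hy : (orderOf y).Coprime 2) {j : ℕ} (h : Commute (y ^ 2 ^ j) d) :
    Commute y d :=
  (mem_cent1.1 (oU_mem_of_pow_mem (N := 𝐂₁(d)) (hy.pow_right j) (mem_cent1.2 h.symm))).symm

theorem step {y d : L} (hy : (orderOf y).Coprime 2) (h : Commute y ⁅y, d⁆) {j : ℕ}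
    (hj : ⁅y, d⁆ ^ 2 ^ j = 1) : Commute y d := by
  have e : y * d = ⁅y, d⁆ * d * y := by rw [commutatorElement_def]; group
  generalize ⁅y, d⁆ = w at *
  have k : ∀ n : ℕ, y ^ n * d = w ^ n * d * y ^ n := fun n => by
    induction n with
    | zero => simp
    | succ n ih =>
      rw [pow_succ', mul_assoc, ih, ← mul_assoc, ← mul_assoc, (h.pow_right n).eq, mul_assoc _ y, e, pow_succ]
      simp only [mul_assoc]
  exact comm_of_pow hy (j := j) (by rw [Commute, SemiconjBy, k, hj, one_mul])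

theorem nilA {D N : Subgroup L} [hn : D.Normal] (hD : IsPGroup 2 D) (hC : 𝐂(D) ≤ D)
    (h1 : ∀ x ∈ N, ∃ k : ℕ, ∀ v ∈ omZ D, Commute (x ^ 2 ^ k) v) :
    ∃ M : Subgroup L, M.Normal ∧ (∀ x, (∀ d ∈ D, ⁅x, d⁆ ∈ 𝐂(D)) → x ∈ M) ∧
      IsPGroup 2 (N ⊓ M : Subgroup L) := by
  haveI : Fact (Nat.Prime 2) := ⟨Nat.prime_two⟩
  have nC : (𝐂(D)).Normal := inferInstance
  let M : Subgroup L :=
    { carrier := {x | ∀ d ∈ D, ⁅x, d⁆ ∈ 𝐂(D)}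
      one_mem' := fun d _ => by simp
      mul_mem' := fun {x y} hx hy d hd => by
        rw [show ⁅x * y, d⁆ = x * ⁅y, d⁆ * x⁻¹ * ⁅x, d⁆ by simp only [commutatorElement_def]; group]
        exact mul_mem (nC.conj_mem _ (hy d hd) x) (hx d hd)
      inv_mem' := fun {x} hx d hd => by
        rw [show ⁅x⁻¹, d⁆ = x⁻¹ * ⁅x, d⁆⁻¹ * x⁻¹⁻¹ by simp only [commutatorElement_def]; group]
        exact nC.conj_mem _ (inv_mem (hx d hd)) x⁻¹ }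
  refine ⟨M, ⟨fun x hx g d hd => ?_⟩, fun _ h => h, isPGroup_iff_forall_mem.2 fun x hx => ?_⟩
  · rw [show ⁅g * x * g⁻¹, d⁆ = g * ⁅x, g⁻¹ * d * g⁻¹⁻¹⁆ * g⁻¹ by simp only [commutatorElement_def]; group]
    exact nC.conj_mem _ (hx _ (hn.conj_mem d hd _)) g
  obtain ⟨k, hk⟩ := oU_exists_pow_coprime (p := 2) x
  have hy := pow_mem hx (2 ^ k)
  refine ⟨k, ?_⟩
  generalize x ^ 2 ^ k = y at hk hy
  obtain ⟨j, hj⟩ := h1 y hy.1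
  have cD : ∀ d ∈ D, ⁅y, d⁆ ∈ D := fun d hd => by
    rw [commutatorElement_def]; exact mul_mem (hn.conj_mem d hd y) (inv_mem hd)
  have hZ : ∀ (k : ℕ), ∀ d ∈ D, d ∈ 𝐂(D) → d ^ 2 ^ k = 1 → Commute y d := fun k => by
    induction k with
    | zero => intro d _ _ e; rw [pow_zero, pow_one] at e; rw [e]; exact Commute.one_right _
    | succ k ih =>
      intro d hd hc e
      have a1 := ih (d * d) (mul_mem hd hd) (mul_mem hc hc) (by rw [← pow_two, ← pow_mul, ← pow_succ', e])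
      have a2 : ⁅y, d⁆ * ⁅y, d⁆ = 1 := by
        rw [commutatorElement_def,
          (mem_cent.1 (inv_mem hc) _ (hn.conj_mem d hd y)).symm.mul_mul_mul_comm, conj_mul, a1.eq]
        group
      exact step hk (comm_of_pow hk (hj _ ⟨cD d hd, hy.2 d hd, a2⟩)) (j := 1) (by rw [pow_one, pow_two, a2])
  have hyD : y ∈ D := hC (mem_cent.2 fun d hd => by
    obtain ⟨i, hi⟩ := pg_elem hD (cD d hd)
    exact (step hk (hZ i _ (cD d hd) (hy.2 d hd) hi) hi).symm)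
  obtain ⟨i, hi⟩ := pg_elem hD hyD
  exact orderOf_eq_one_iff.1 (Nat.eq_one_of_dvd_coprimes (hk.pow_right i) dvd_rfl
    (orderOf_dvd_of_pow_eq_one hi))

theorem bigB {D N K J : Subgroup L} {z b f : L} (i : I2 z b)
    (mx : ∀ x, Commute z x → Commute b x → x ^ 3 = 1 → x ∈ zpowers z ⊔ zpowers b)
    (fp : ∀ X : Subgroup L, IsPGroup 2 X → z ∈ 𝐍(X) → b ∈ 𝐍(X) → ∀ x ∈ X, Commute z x → x = 1)
    (p : IsPGroup 2 N) (d : D ≤ N) (zN : z ∈ 𝐍(N)) (bN : b ∈ 𝐍(N)) (fN : f ∈ N) (dK : D ≤ K)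
    (KJ : K ≤ J) (fJ : f ∈ J) (JK : J ≤ 𝐍(K)) (zK : z ∈ 𝐍(K)) (bK : b ∈ 𝐍(K)) (zJ : z ∈ 𝐍(J))
    (bJ : b ∈ 𝐍(J)) (sq : ∀ x ∈ J, x * x ∈ K) (n1 : z ∉ K) (n2 : b ∉ K) (n3 : b * z ∉ K)
    (n4 : b * z⁻¹ ∉ K) {x : L} (xJ : x ∈ J) (hx : ⁅b, x⁆ ∉ K) :
    ∃ S : Subgroup L, IsPGroup 2 S ∧ z ∈ 𝐍(S) ∧ b ∈ 𝐍(S) ∧ D ≤ S ∧ f ∈ S ∧
      (¬ S ⊓ 𝐂₁(b * z) ≤ D ∨ ¬ S ⊓ 𝐂₁(b * z⁻¹) ≤ D) := by
  haveI : Fact (Nat.Prime 2) := ⟨Nat.prime_two⟩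
  haveI : Fact (Nat.Prime 3) := ⟨Nat.prime_three⟩
  have en : ∀ {X : Subgroup L}, z ∈ 𝐍(X) → b ∈ 𝐍(X) → zpowers z ⊔ zpowers b ≤ 𝐍(X) := fun h1 h2 =>
    sup_le (zpowers_le.2 h1) (zpowers_le.2 h2)
  have mz : z ∈ zpowers z ⊔ zpowers b := mem4 (Or.inl rfl)
  have mb : b ∈ zpowers z ⊔ zpowers b := mem4 (Or.inr (Or.inl rfl))
  have hE := i.ea.isPGroup
  have K3 : ¬ 3 ∣ #|K| := fun h => by
    obtain ⟨S, hS, hES⟩ := exists_sylIn_ge hE (le_sup_right : _ ≤ K ⊔ (zpowers z ⊔ zpowers b))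
    have hR := hS.inf_normal_of_le (sup_le le_normalizer (en zK bK)) le_sup_left
    obtain ⟨y, hy, y1⟩ := (bot_or_exists_ne_one _).resolve_left (inf_centralizer_ne_bot hE hR.pgroup
      (le_normalizer_inf (hES.trans le_normalizer) (en zK bK)) (hR.ne_bot h))
    obtain ⟨k, hk⟩ := pg_elem hR.pgroup hy.1
    obtain ⟨j, j1, j3⟩ := exists_pow_order y1 hk
    have hy' := pow_mem hy j
    obtain ⟨u, hu, -, e⟩ := cases4 i (mx _ (mem_cent.1 hy'.2 z mz) (mem_cent.1 hy'.2 b mb) j3) j1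
    rcases hu with rfl | rfl | rfl | rfl
    exacts [n1 (e K hy'.1.2), n2 (e K hy'.1.2), n3 (e K hy'.1.2), n4 (e K hy'.1.2)]
  have J3 : ¬ 3 ∣ #|J| := fun h => by
    obtain ⟨y, hy⟩ := exists_prime_orderOf_dvd_card' 3 h
    have o : orderOf (y : L) = 3 := by rw [orderOf_coe, hy]
    exact K3 (o ▸ K.orderOf_dvd_natCard (mem_of_sq (o ▸ pow_orderOf_eq_one _) (sq y y.2)))
  have co : (#|J|).Coprime #|(zpowers z ⊔ zpowers b : Subgroup L)| := by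
    rw [i.card]
    exact (((Nat.Prime.coprime_iff_not_dvd Nat.prime_three).2 J3).symm.pow_right 2 :)
  obtain ⟨S, hS, hNS, eS⟩ := H39.exists_inv_sylIn_ge (en zJ bJ) co (Or.inl (H39.sol_pgroup hE))
    (inf_le_right : N ⊓ J ≤ J) (p.to_le inf_le_left) (le_normalizer_inf (en zN bN) (en zJ bJ))
  refine ⟨S, hS.pgroup, eS mz, eS mb, (le_inf d (dK.trans KJ)).trans hNS, hNS ⟨fN, fJ⟩, ?_⟩
  by_contra! hc
  let M : Subgroup L :=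
    { carrier := {x | x ∈ J ∧ ⁅b, x⁆ ∈ K}
      one_mem' := ⟨one_mem _, by simp⟩
      mul_mem' := fun {x y} hx hy => ⟨mul_mem hx.1 hy.1, by
        rw [show ⁅b, x * y⁆ = ⁅b, x⁆ * (x * ⁅b, y⁆ * x⁻¹) by simp only [commutatorElement_def]; group]
        exact mul_mem hx.2 (conj_mem (JK hx.1) hy.2)⟩
      inv_mem' := fun {x} hx => ⟨inv_mem hx.1, by
        rw [show ⁅b, x⁻¹⁆ = x⁻¹ * ⁅b, x⁆⁻¹ * x⁻¹⁻¹ by simp only [commutatorElement_def]; group]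
        exact conj_mem (JK (inv_mem hx.1)) (inv_mem hx.2)⟩ }
  have KM : K ≤ M := fun y hy => ⟨KJ hy, by
    rw [commutatorElement_def]; exact mul_mem (conj_mem bK hy) (inv_mem hy)⟩
  haveI := i.ea.comm
  have SM : S ≤ M := CL.coprime_le_of_forall_centralizer_le _ S M (not_cyclic i.ea i.card.ge) eS
    (co.coprime_dvd_left (card_dvd_of_le hS.le)).symm fun e he e1 => by
      obtain ⟨u, hu, e2, -⟩ := cases4 i he e1
      rw [e2]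
      rcases hu with rfl | rfl | rfl | rfl
      · intro y hy
        rw [fp S hS.pgroup (eS mz) (eS mb) y hy.1 (mem_cent1.1 hy.2)]
        exact one_mem _
      · exact fun y hy => ⟨hS.le hy.1, by
          rw [commutatorElement_eq_one_iff_commute.2 (mem_cent1.1 hy.2)]; exact one_mem _⟩
      exacts [hc.1.trans (dK.trans KM), hc.2.trans (dK.trans KM)]
  exact hx (le_of_oU_le_of_sylIn_le hS ((oU_le_of_pow fun y hy =>
    ⟨1, by rw [pow_one, pow_two]; exact sq y hy⟩).trans KM) SM xJ).2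

/-- one side -/
theorem side {D N₁ N₂ : Subgroup L} [hn : D.Normal] {z b f g : L}
    (i : I2 z b) (hD : IsPGroup 2 D) (hC : 𝐂(D) ≤ D)
    (mx : ∀ x, Commute z x → Commute b x → x ^ 3 = 1 → x ∈ zpowers z ⊔ zpowers b)
    (fp : ∀ X : Subgroup L, IsPGroup 2 X → z ∈ 𝐍(X) → b ∈ 𝐍(X) → ∀ x ∈ X, Commute z x → x = 1)
    (p₁ : IsPGroup 2 N₁) (d₁ : D ≤ N₁) (z₁ : z ∈ 𝐍(N₁)) (b₁ : b ∈ 𝐍(N₁))
    (p₂ : IsPGroup 2 N₂) (d₂ : D ≤ N₂) (z₂ : z ∈ 𝐍(N₂)) (b₂ : b ∈ 𝐍(N₂))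
    (f₁ : f ∈ N₁) (bf : Commute b f) (g₂ : g ∈ N₂) (bg : Commute (b * z) g) :
    ∃ S : Subgroup L, IsPGroup 2 S ∧ z ∈ 𝐍(S) ∧ b ∈ 𝐍(S) ∧ D ≤ S ∧ f ∈ S ∧
      (g ∈ S ∨ ¬ S ⊓ 𝐂₁(b * z) ≤ D ∨ ¬ S ⊓ 𝐂₁(b * z⁻¹) ≤ D) := by
  have nD : ∀ x, x ∈ 𝐍(D) := fun x => le_normalizer_of_normal (mem_top x)
  haveI : (omZ D).Normal := ⟨fun v hv x => conj_mem (omZ_norm D (nD x)) hv⟩
  letI : CommGroup (omZ D) := { (inferInstance : Group _) with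
    mul_comm := fun a b => Subtype.ext ((omZ_ea D).1 a a.2 b b.2) }
  let ρ : L →* AddMonoid.End (Additive (omZ D)) :=
    { toFun := fun x => MonoidHom.toAdditive (MulAut.conjNormal x).toMonoidHom
      map_one' := AddMonoidHom.ext fun v => by simp; rfl
      map_mul' := fun x y => AddMonoidHom.ext fun v => by simp; rfl }
  have ex : ∀ {s t : AddMonoid.End (Additive (omZ D))},
      (∀ v, ((s v).toMul : L) = (t v).toMul) → s = t := fun h =>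
    AddMonoidHom.ext fun v => Additive.toMul.injective (Subtype.ext (h v))
  have r1 : ∀ x v, ((ρ x v).toMul : L) = x * v.toMul * x⁻¹ := fun x v => rfl
  have r2 : ∀ x v, (((ρ x - 1) v).toMul : L) = ⁅x, (v.toMul : L)⁆ := fun x v => by
    rw [commutatorElement_def, ← div_eq_mul_inv]; rfl
  have r3 : ∀ (s t : AddMonoid.End (Additive (omZ D))) v, (s * t) v = s (t v) := fun _ _ _ => rfl
  have q1 : ∀ {N : Subgroup L} {x : L}, IsPGroup 2 N → D ≤ N → z ∈ 𝐍(N) → b ∈ 𝐍(N) → x ∈ N →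
      (ρ x - 1) * (ρ x - 1) = 0 ∧ (ρ x - 1) * ρ z = ρ z * ρ z * (ρ x - 1) ∧ ∀ d ∈ D, ⁅x, d⁆ ∈ 𝐂(D) :=
    fun p d a1 a2 hx => ⟨ex fun v => by
      rw [r3, r2, r2]
      exact commutatorElement_eq_one_iff_commute.2
        (class2 i.a3 a1 (fp _ p a1 a2) hx (d v.toMul.2.1) hx).symm, ex fun v => by
      rw [r3, r2, r1, ← map_mul, r3, r1, r2]
      exact anti i.a3 a1 (fp _ p a1 a2) hx (d v.toMul.2.1),
      fun e he => mem_cent.2 fun w hw => (class2 i.a3 a1 (fp _ p a1 a2) hx (d he) (d hw)).symm⟩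
  obtain ⟨a1, a2, a3⟩ := q1 p₁ d₁ z₁ b₁ f₁
  obtain ⟨a4, a5, a6⟩ := q1 p₂ d₂ z₂ b₂ g₂
  rcases linG (fun v => Additive.toMul.injective (Subtype.ext v.toMul.2.2.2)) ρ i.a3 i.b3 i.ab.symm bf bg
    (ex fun v => by
      have := CL.Gold.F4.fpf_three (nD z) (fun x hx e => fp D hD (nD z) (nD b) x hx e)
        (by rw [i.a3]; exact one_mem _) v.toMul.2.1
      have c1 := (omZ_ea D).1 _ (ρ z v).toMul.2 _ v.toMul.2
      have c2 := (omZ_ea D).1 _ (ρ z (ρ z v)).toMul.2 _ (mul_mem v.toMul.2 (ρ z v).toMul.2)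
      change ((ρ z (ρ z v)).toMul : L) * (ρ z v).toMul * v.toMul = 1
      rw [mul_assoc, c1.eq, c2.eq]
      exact this) a1 a4 a2 a5 with ⟨N, c1, c2, c3, c4, c5⟩ |
    ⟨K, J, c1, c2, c3, c4, c5, c6, c7, c8, c9, n1, n2, n3, n4, x, xJ, hx⟩
  · obtain ⟨M, hM, m1, m2⟩ := nilA (N := N) hD hC fun x hx => (c5 x hx).imp fun k hk v hv => by
      have := r1 (x ^ 2 ^ k) (Additive.ofMul ⟨v, hv⟩)
      rw [map_pow, hk] at this
      exact mul_inv_eq_iff_eq_mul.1 this.symm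
    have nM : ∀ y, y ∈ 𝐍(N) → y ∈ 𝐍(D ⊔ (N ⊓ M)) := fun y hy =>
      normalizer_inf_normalizer_le_normalizer_sup _ _ ⟨nD y, mem_norm fun w hw =>
        ⟨conj_mem hy hw.1, hM.conj_mem w hw.2 y⟩⟩
    exact ⟨D ⊔ (N ⊓ M), isPGroup_sup_of_normalizes' hD m2 fun y _ => nD y, nM z c3, nM b c4, le_sup_left,
      mem_sup_right ⟨c1, m1 f a3⟩, Or.inl (mem_sup_right ⟨c2, m1 g a6⟩)⟩
  · obtain ⟨S, s1, s2, s3, s4, s5, s6⟩ := bigB i mx fp p₁ d₁ z₁ b₁ f₁ (le_trans (fun d hd =>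
      MonoidHom.mem_ker.2 (ex fun v => by
        rw [r1, (mem_cent.1 v.toMul.2.2.1 d hd).eq, mul_inv_cancel_right]; rfl)) c1)
      c2 c3 c4 c5 c6 c7 c8 c9 n1 n2 n3 n4 xJ hx
    exact ⟨S, s1, s2, s3, s4, s5, Or.inr s6⟩

end

/-- `side` for `(f, g, z, b)` and for `(g, f, z⁻¹, b z)`. -/
theorem keyL {L : Type*} [Group L] [Finite L] {D N₁ N₂ : Subgroup L} [D.Normal] {z b f g : L}
    (i : I2 z b) (hD : IsPGroup 2 D) (hC : 𝐂(D) ≤ D)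
    (mx : ∀ x, Commute z x → Commute b x → x ^ 3 = 1 → x ∈ zpowers z ⊔ zpowers b)
    (fp : ∀ X : Subgroup L, IsPGroup 2 X → z ∈ 𝐍(X) → b ∈ 𝐍(X) → ∀ x ∈ X, Commute z x → x = 1)
    (p₁ : IsPGroup 2 N₁) (d₁ : D ≤ N₁) (z₁ : z ∈ 𝐍(N₁)) (b₁ : b ∈ 𝐍(N₁))
    (p₂ : IsPGroup 2 N₂) (d₂ : D ≤ N₂) (z₂ : z ∈ 𝐍(N₂)) (b₂ : b ∈ 𝐍(N₂))
    (f₁ : f ∈ N₁) (fD : f ∉ D) (bf : Commute b f) (g₂ : g ∈ N₂) (gD : g ∉ D) (bg : Commute (b * z) g) :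
    ∃ J₁ J₂ : Subgroup L, IsPGroup 2 J₁ ∧ z ∈ 𝐍(J₁) ∧ b ∈ 𝐍(J₁) ∧ D ≤ J₁ ∧ f ∈ J₁ ∧
      IsPGroup 2 J₂ ∧ z ∈ 𝐍(J₂) ∧ b ∈ 𝐍(J₂) ∧ D ≤ J₂ ∧ g ∈ J₂ ∧
      ∃ u ∈ zpowers z ⊔ zpowers b, u ≠ 1 ∧ ¬ J₁ ⊓ 𝐂₁(u) ≤ D ∧ ¬ J₂ ⊓ 𝐂₁(u) ≤ D := by
  have zi : z⁻¹ = z * z := inv_eq_of_mul_eq_one_right (by rw [← pow_three, i.a3])
  have m2 : b ∈ zpowers z ⊔ zpowers b := mem4 (Or.inr (Or.inl rfl))
  have m3 : b * z ∈ zpowers z ⊔ zpowers b := mem4 (Or.inr (Or.inr (Or.inl rfl)))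
  have m4 : b * z⁻¹ ∈ zpowers z ⊔ zpowers b := mem4 (Or.inr (Or.inr (Or.inr rfl)))
  have n3 : b * z ≠ 1 := fun e => i.nb (eq_inv_of_mul_eq_one_left e ▸ inv_mem (mem_zpowers z))
  have n4 : b * z⁻¹ ≠ 1 := fun e => i.nb (mul_inv_eq_one.1 e ▸ mem_zpowers b)
  have i' : I2 z⁻¹ (b * z) := ⟨by rw [inv_pow, i.a3, inv_one], i.ea.2 _ m3,
    (i.ab.mul_right (Commute.refl z)).inv_left, inv_ne_one.2 i.a1, fun h => i.nb (by
      rw [zpowers_inv] at h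
      exact (mul_mem_cancel_right (mem_zpowers z)).1 h)⟩
  have eq : zpowers z⁻¹ ⊔ zpowers (b * z) = zpowers z ⊔ zpowers b :=
    i'.eq_of_card (inv_mem (mem4 (Or.inl rfl))) m3 i.card
  have kf : ∀ {S : Subgroup L}, f ∈ S → ¬ S ⊓ 𝐂₁(b) ≤ D := fun h e => fD (e ⟨h, mem_cent1.2 bf⟩)
  have kg : ∀ {S : Subgroup L}, g ∈ S → ¬ S ⊓ 𝐂₁(b * z) ≤ D := fun h e => gD (e ⟨h, mem_cent1.2 bg⟩)
  obtain ⟨S, s1, s2, s3, s4, s5, s6⟩ := side i hD hC mx fp p₁ d₁ z₁ b₁ p₂ d₂ z₂ b₂ f₁ bf g₂ bg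
  obtain ⟨T, t1, t2, t3, t4, t5, t6⟩ := side i' hD hC
    (fun x h1 h2 h3 => eq ▸ mx x (by simpa using h1) (by simpa using h2.mul_left h1) h3)
    (fun X h1 h2 h3 x hx h4 => fp X h1 (inv_mem_iff.1 h2) (by simpa using mul_mem h3 h2) x hx
      (by simpa using h4)) p₂ d₂ (inv_mem z₂) (mul_mem b₂ z₂) p₁ d₁ (inv_mem z₁) (mul_mem b₁ z₁) g₂ bg f₁
    (by simpa using bf)
  have t2' := inv_mem_iff.1 t2
  have t3' : b ∈ 𝐍(T) := by simpa using mul_mem t3 t2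
  rw [mul_inv_cancel_right, inv_inv, mul_assoc, ← zi] at t6
  rcases s6 with a | a | a
  · exact ⟨S, S, s1, s2, s3, s4, s5, s1, s2, s3, s4, a, b, m2, i.b1, kf s5, kf s5⟩
  · exact ⟨S, T, s1, s2, s3, s4, s5, t1, t2', t3', t4, t5, _, m3, n3, a, kg t5⟩
  rcases t6 with c | c | c
  · exact ⟨T, T, t1, t2', t3', t4, c, t1, t2', t3', t4, t5, b, m2, i.b1, kf c, kf c⟩
  · exact ⟨S, T, s1, s2, s3, s4, s5, t1, t2', t3', t4, t5, _, m2, i.b1, kf s5, c⟩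
  · exact ⟨S, T, s1, s2, s3, s4, s5, t1, t2', t3', t4, t5, _, m4, n4, a, c⟩

end CL.M23
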