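import Cfsg.Agent.INV.M23.Defs
import Cfsg.Agent.S1296
import Cfsg.Agent.SIG.Component

/-! Characteristic 2 type. -/

set_option autoImplicit false
set_option linter.style.haveILetI false
set_option linter.unusedSectionVars false
open Subgroup Cfsg CL.MSS CL.BG CL.KM CL.K3

namespace CL.M23
variable {G : Type*} [Group G] [Finite G]

/-- S1296 as in `Smp.dich` (INV/K3/Main): even order by `h3`, no normal subgroup of index 2 (`G` simple, not
abelian), `O(G) = 1`.  Component type is impossible: `C(t) = N(⟨t⟩)` (`zpowers_two`) is 2-constrained, so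
`H = C(t)/O(C(t))` has `C(O₂(H)) ≤ O₂(H)` (`CL.PC.isPConstrained_iff`); a component centralizes `O₂(H)`
(SIG/Component), so it is a 2-group, but it is perfect and nontrivial. -/
theorem setA [IsSimpleGroup G] (hG : ¬ IsMulCommutative G) (h3 : ¬ PRankLE 2 2 G)
    (hcon : ∀ T : Subgroup G, IsPGroup 2 T → T ≠ ⊥ → IsPConstrained 2 (𝐍(T) : Subgroup G)) :
    IsCharacteristicTwoType G := by
  haveI : Fact (Nat.Prime 2) := ⟨Nat.prime_two⟩
  have h2 : 2 ∣ Nat.card G := by
    by_contra hn
    refine h3 fun A _ hA => ?_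
    have : A = ⊥ := (eq_bot_iff_forall A).2 fun a ha => by
      have h1 := orderOf_dvd_of_pow_eq_one (hA a ha)
      rcases (Nat.dvd_prime Nat.prime_two).1 h1 with e | e
      · exact orderOf_eq_one_iff.1 e
      · exact (hn (e ▸ orderOf_dvd_natCard a)).elim
    rw [this, card_bot]
    norm_num
  rcases Cfsg.Agent.S1296.result (G := G) (even_iff_two_dvd.2 h2) (fun N hN hi => by
    rcases hN.eq_bot_or_eq_top with e | e
    · rw [e, index_bot] at hi
      haveI := isCyclic_of_prime_card hi
      exact hG inferInstance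
    · rw [e, index_top] at hi
      omega) (((inferInstance : (pPrimeCore 2 G).Normal).eq_bot_or_eq_top).resolve_right fun e =>
        CL.not_dvd_card_pPrimeCore 2 G (by rw [e, card_top]; exact h2)) with h1 | h1 | h1
  · exact (h3 h1).elim
  · exfalso
    obtain ⟨t, ht, K, hK⟩ := h1
    have hK' : IsComponent K := hK
    obtain ⟨p1, p2, p3⟩ := zpowers_two ht
    have hc := hcon _ p1 p2
    rw [p3] at hc
    have hc' := CL.PC.isPConstrained_iff.1 hc
    have hs : Group.IsSolvable (pCore 2 ((𝐂₁(t) : Subgroup G) ⧸ pPrimeCore 2 (𝐂₁(t) : Subgroup G))) := by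
      haveI := (oP_pCore_isPGroup (p := 2) (G := (𝐂₁(t) : Subgroup G) ⧸ pPrimeCore 2 (𝐂₁(t) : Subgroup G))).isNilpotent
      infer_instance
    exact hK'.not_le_of_isSolvable hs
      ((commutator_eq_bot_iff_le_centralizer.1 (hK'.commutator_eq_bot_of_isSolvable_normal hs)).trans hc')
  · exact h1

end CL.M23
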