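import Cfsg.Agent.INV.M23.SetA
import Cfsg.Agent.INV.M23.SetB
import Cfsg.Agent.INV.M23.Bal

/-! The standing hypotheses hold. -/

set_option autoImplicit false
set_option linter.style.haveILetI false
set_option linter.unusedSectionVars false
open Subgroup Cfsg CL.MSS CL.BG CL.KM CL.K3

namespace CL.M23
variable {G : Type*} [Group G] [Finite G]

/-- the elements of order dividing 3 of an abelian subgroup -/
def scOm (B : Subgroup G) (hB : B ≤ 𝐂(B)) : Subgroup G where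
  carrier := {x | x ∈ B ∧ x ^ 3 = 1}
  one_mem' := ⟨B.one_mem, one_pow _⟩
  mul_mem' := fun {a b} ha hb => ⟨B.mul_mem ha.1 hb.1, by
    rw [(mem_cent.1 (hB hb.1) a ha.1).mul_pow, ha.2, hb.2, one_mul]⟩
  inv_mem' := fun {a} ha => ⟨B.inv_mem ha.1, by rw [inv_pow, ha.2, inv_one]⟩

theorem sc_ea_cj {q : ℕ} {A : Subgroup G} (h : EA q A) (k : G) : EA q (k •ᶜ A) :=
  ⟨fun a ha b hb => by
    obtain ⟨a', ha', rfl⟩ := mem_cj'.1 ha
    obtain ⟨b', hb', rfl⟩ := mem_cj'.1 hb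
    exact comm_conj (h.1 a' ha' b' hb'), fun a ha => by
    obtain ⟨a', ha', rfl⟩ := mem_cj'.1 ha
    rw [conj_pow, h.2 a' ha', mul_one, mul_inv_cancel]⟩

/-- `W = Ω₁(B)` (the elements of `B` of order dividing 3) is elementary abelian of order `≥ 27`, normalized by
`P`; it contains `U` of order 9 normalized by `P` (normal series of a 3-group).  Every `b ∈ U#` is `Od`
(`od_of_noinv` with `A = B`, `setB`), so is every `x ∈ C(U)` of order 3 (`od_step`).  A 3-subgroup `R` lies in a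
conjugate of `P`; conjugate `U`, `W` (`Od.conj`). -/
theorem setC (hc : Con G) (P : Sylow 3 G) {B : Subgroup G} (hB : IsSCN (P : Subgroup G) B)
    (hB3 : ¬ PRankLE 3 2 B)
    (hPinv : ∀ X : Subgroup G, IsPGroup 2 X → (P : Subgroup G) ≤ 𝐍(X) → X = ⊥)
    (R : Subgroup G) (hR : IsPGroup 3 R) : ∃ U W : Subgroup G, EA 3 W ∧ 27 ≤ #|W| ∧ U ≤ W ∧
      #|U| = 9 ∧ R ≤ 𝐍(U) ∧ ∀ x ∈ 𝐂(U), x ≠ 1 → x ^ 3 = 1 → Od x := by
  haveI : Fact (Nat.Prime 3) := ⟨Nat.prime_three⟩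
  have hBC : B ≤ 𝐂(B) := hB.2.2.ge.trans inf_le_right
  have hW : EA 3 (scOm B hBC) := ⟨fun a ha b hb => mem_cent.1 (hBC hb.1) a ha.1, fun a ha => ha.2⟩
  have h27 : 27 ≤ #|scOm B hBC| := by
    obtain ⟨k, hk⟩ := hW.isPGroup.exists_card_eq
    by_contra hlt
    refine hB3 fun A _ hA => ?_
    have h1 : A.map B.subtype ≤ scOm B hBC := by
      rintro _ ⟨a, ha, rfl⟩
      exact ⟨a.2, congrArg Subtype.val (hA a ha)⟩
    have h2 := card_le_of_le h1
    rw [card_map_of_injective B.subtype_injective, hk] at h2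
    refine h2.trans (Nat.pow_le_pow_right (by norm_num) ?_)
    by_contra h3
    exact hlt (hk ▸ (Nat.pow_le_pow_right (by norm_num) (by omega) : 3 ^ 3 ≤ 3 ^ k))
  obtain ⟨U, hUW, hPU, hU9⟩ := A38.exists_normalIn_card_eq P.isPGroup' (N := scOm B hBC)
    (fun x hx => hB.1 hx.1) (fun g hg => mem_norm fun x hx => ⟨conj_mem (hB.2.1 hg) hx.1, by
      rw [conj_pow, hx.2, mul_one, mul_inv_cancel]⟩) (k := 2) (le_trans (by norm_num) h27)
  have hod : ∀ x ∈ 𝐂(U), x ^ 3 = 1 → Od x := fun x hx x3 =>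
    od_step hc (hW.mono hUW) hU9.ge (fun d hd _ => od_of_noinv (P.isPGroup'.to_le hB.1)
      (fun b hb => KM.cent_le_norm fun _ hy => comm_zp (mem_cent.1 (hBC hb) d (hUW hd).1) hy)
      fun T hT hBT => setB hc P hB hB3 hPinv hT hBT) hx x3
  obtain ⟨g, -, hg⟩ := (sylIn_top P).exists_le_conj hR le_top
  refine ⟨g •ᶜ U, g •ᶜ scOm B hBC, sc_ea_cj hW g, by rwa [card_cj], cj_mono g hUW, by rwa [card_cj],
    hg.trans (cj_normalizer g U ▸ cj_mono g hPU), fun x hx _ x3 => ?_⟩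
  rw [← cj_centralizer] at hx
  obtain ⟨y, hy, rfl⟩ := mem_cj'.1 hx
  exact (hod y hy (conj_eq_one_iff.1 (by rwa [conj_pow] at x3))).conj g

/-- `N(R) = ⊤` makes `R = ⊤` (simple), so `G` would be a simple 3-group, abelian. -/
theorem hy_of [IsSimpleGroup G] (hG : ¬ IsMulCommutative G) (A : Subgroup G) (hA3 : ¬ PRankLE 2 2 A)
    (hcon : ∀ T : Subgroup G, IsPGroup 2 T → T ≠ ⊥ → IsPConstrained 2 (𝐍(T) : Subgroup G))
    (P : Sylow 3 G) (B : Subgroup G) (hB : IsSCN (P : Subgroup G) B) (hB3 : ¬ PRankLE 3 2 B)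
    (hPinv : ∀ X : Subgroup G, IsPGroup 2 X → (P : Subgroup G) ≤ 𝐍(X) → X = ⊥)
    (h3con : ∀ R : Subgroup G, IsPGroup 3 R → R ≠ ⊥ → 𝐍(R) ≠ ⊤ → IsPConstrained 3 (𝐍(R) : Subgroup G)) :
    Hy G := by
  haveI : Fact (Nat.Prime 3) := ⟨Nat.prime_three⟩
  have h3 : ¬ PRankLE 2 2 G := fun h => hA3 fun E hE hE2 => by
    rw [← card_map_of_injective A.subtype_injective]
    exact h _ inferInstance (by
      rintro _ ⟨a, ha, rfl⟩
      exact congrArg Subtype.val (hE2 a ha))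
  have hc : Con G := fun T hT h0 => h3con T hT h0 fun e => by
    have hn : T.Normal := normalizer_eq_top_iff.1 e
    have ht := hn.eq_bot_or_eq_top.resolve_left h0
    have hG3 : IsPGroup 3 G := (ht ▸ hT).of_equiv topEquiv
    haveI := hG3.isNilpotent
    exact hG ⟨⟨IsSimpleGroup.comm_iff_isSolvable.2 inferInstance⟩⟩
  exact ⟨inferInstance, hG, setA hG h3 hcon, h3, hc, setC hc P hB hB3 hPinv⟩

end CL.M23
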