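import Cfsg.Agent.INV.M23.ExE
import Cfsg.Agent.INV.M23.SetB
import Cfsg.Agent.INV.M23.Key
import Cfsg.Agent.INV.M23.Tr

/-! An involution centralizes some `E₉`. -/

set_option autoImplicit false
set_option linter.style.haveILetI false
set_option linter.unusedSectionVars false
open Subgroup Cfsg CL.MSS CL.BG CL.KM CL.K3

namespace CL.M23
variable {G : Type*} [Group G] [Finite G]

/-- Suppose there is no good pair.  By `good_of`, `od_of_big`: `E` contains all `x ∈ C(E)` with `x³ = 1`.  `syl` for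
`R = E`: `U ≰ C(E)` (else `U = E`, `W ≤ E`); `C_U(E) = U ⊓ E = ⟨z⟩` has order 3, `Od z`, `E` is trivial on `U / ⟨z⟩`, so
`U ≤ N(E)`.  `fp`: for an `E`-invariant 2-group `X` with `Y = C_X(z) ≠ 1`, `V = omZ Y ≠ 1` is `E`-invariant; `|V| > 2`:
`exists_cent_inv` (`D = ⟨z⟩`, `k = 1`); `|V| = 2`: `E` centralizes it; both give good pairs.  `trans` (`hsig` by
`thompson_bender`, `hkey` by `key`) and `fix_max'`: `U` normalizes a nontrivial 2-group; `good_of`. -/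
theorem Hy.start (h : Hy G) {T E : Subgroup G} (hT : IsPGroup 2 T) (h0 : T ≠ ⊥) (hET : E ≤ 𝐍(T))
    (hE : EA 3 E) (h9 : #|E| = 9) : ∃ (z : G) (A : Subgroup G), Good 3 9 z A := by
  haveI : Fact (Nat.Prime 3) := ⟨Nat.prime_three⟩
  by_contra hng
  have ng : ∀ {z : G} {A : Subgroup G}, ¬ Good 3 9 z A := fun g => hng ⟨_, _, g⟩
  have mx : ∀ x ∈ 𝐂(E), x ^ 3 = 1 → x ∈ E := fun x hx x3 => by
    by_contra hxE
    have hE' := hE.sup_zpowers x3 (mem_cent.1 hx)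
    have h1 := mul_card_le_of_lt hE'.isPGroup (lt_of_le_of_ne (le_sup_left : E ≤ _)
      fun e => hxE (e ▸ mem_sup_right (mem_zpowers x)))
    obtain ⟨z, A, g⟩ := good_of h.con hE h9.ge
      (fun a ha _ => h.od_of_big hE' (by omega) (mem_sup_left ha)) hT h0 hET
    exact ng (h9 ▸ g)
  obtain ⟨U, W, hW, -, hUW, hU9, hEU, ho⟩ := h.syl E hE.isPGroup
  have hU := hW.mono hUW
  have ho' : ∀ a ∈ U, a ≠ 1 → Od a := fun a ha a1 =>
    ho a (mem_cent.2 fun s hs => hU.1 s hs a ha) a1 (hU.2 a ha)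
  obtain ⟨z, hz, z1⟩ := exists_mem_ne_one (inf_centralizer_ne_bot hE.isPGroup hU.isPGroup hEU (by
    rintro rfl
    simp at hU9))
  have z3 := hU.2 z hz.1
  have zE := mx z hz.2 z3
  have hUE : U ≤ 𝐍(E) := by
    by_contra hn
    have h1 : ∀ y ∈ U, y ∈ 𝐍(E) → y ∈ E := fun y hy hyN => by
      by_contra hyE
      have i : I2 z y := ⟨z3, hU.2 y hy, hU.1 z hz.1 y hy, z1, fun e => hyE (zpowers_le.2 zE e)⟩
      exact hn ((i.eq_of_card hz.1 hy hU9).ge.trans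
        (sup_le (zpowers_le.2 (le_normalizer zE)) (zpowers_le.2 hyN)))
    refine (lt_inf_normalizer_of_lt (isPGroup_sup_of_normalizes' hU.isPGroup hE.isPGroup hEU)
      (lt_of_le_of_ne (le_sup_right : E ≤ U ⊔ E) fun e =>
        hn (le_sup_left.trans (e.ge.trans le_normalizer)))).not_ge fun r hr => ?_
    obtain ⟨u, hu, e, he, rfl⟩ := (mem_sup_of_normalizes_left hEU).1 hr.1
    exact mul_mem (h1 u hu ((mul_mem_cancel_right (le_normalizer he)).1 hr.2)) he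
  have fp : ∀ X : Subgroup G, IsPGroup 2 X → E ≤ 𝐍(X) → ∀ x ∈ X, Commute z x → x = 1 := by
    intro X hX hEX x hx hzx
    by_contra x1
    obtain ⟨v, hv, v1⟩ := exe_omZ (U := X ⊓ 𝐂₁(z)) (hX.to_le inf_le_left) fun e =>
      x1 (mem_bot.1 (e.le ⟨hx, mem_cent1.2 hzx⟩))
    by_cases hc : ∀ e ∈ E, Commute e v
    · exact ng ⟨v1, hv.2.2, hE, hc, h9.ge⟩
    push Not at hc
    obtain ⟨e, he, hev⟩ := hc
    obtain ⟨t, A, h1, h2, h3, h4, h5⟩ := exists_cent_inv h.con (ea_zp z3) (mem_zpowers z) z1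
      (ho' z hz.1 z1) (omZ_ea (X ⊓ 𝐂₁(z))) (fun y hy => by rw [cent_zpowers]; exact hy.1.2) 1
      (two_lt_card hv (conj_mem (omZ_norm _ (MSS.le_normalizer_inf hEX
        (le_norm_of_le (le_cent1_iff.2 hz.2)) he)) hv) hev)
    rw [card_zp3 z3 z1] at h5
    exact ng ⟨h1, h2, h3, h4, h5⟩
  obtain ⟨Q, hQ, hQ0, hUQ⟩ := fix_max' hU.isPGroup hUE (trans hE (fun u hu u1 R hR hER hRu =>
    thompson_bender (p := 3) (by norm_num) (h.con _ (ea_zp (hE.2 u hu)).isPGroup (by simpa using u1))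
      (fun c hc => KM.cent_le_norm fun _ hy => comm_zp (hE.1 u hu c hc) hy) hE.isPGroup
      (fun c hc => KM.cent_le_norm fun _ hy => comm_zp (mem_cent1.1 (hRu hc)) hy)
      (piGrp_compl_of_isPGroup hR (by simp)) hER fun x hx x3 => mx x hx.2 x3)
    fun _ _ _ => fun a b c d e f g k l => key h.c2 hE h9 zE z1 mx fp a b c d e f g k l) hT h0 hET
  obtain ⟨t, A, g⟩ := good_of h.con hU hU9.ge ho' hQ hQ0 hUQ
  exact ng (hU9 ▸ g)

end CL.M23
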